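import Mathlib
import Cfsg.Agent.KFacts.Co1.RIrr
import Cfsg.Agent.KFacts.Co1.Perf
import Cfsg.Agent.CoOneType.InvCheck
import Cfsg.Agent.CoOneType.InvMain
import Cfsg.Agent.CoOneType.ClosingFacts
import Cfsg.Agent.S0367
set_option linter.all false

-- merged: Cfsg.Agent.OddHalf.D9.Isolated
section

/-!
# An involution whose centralizer is `L ∘ R` with `L` like the double cover of `Co1` is isolated

`Facts L ζ P D`: the facts on the group `L` with central involution `ζ` that are used (all satisfied by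
`L = Co0`, `ζ = -1`, `P` = conjugate to the sign change on an octad, `D` = conjugate to the sign change on
a dodecad). `isolated`: if `C_G(z) = φ(L) R` with `z = φ(ζ)`, `R` an abelian 2-group with only one
involution, centralizing `φ(L)`, then `z` commutes with no other conjugate of itself.
-/

set_option autoImplicit false

namespace Cfsg.Agent.OddHalf.D9.Isolated

open Subgroup
open scoped commutatorElement

/-- The facts on the component. -/
structure Facts (L : Type*) [Group L] (ζ : L) (P D : L → Prop) : Prop where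
  one : ζ ≠ 1
  sq : ζ * ζ = 1
  cen : ∀ k : L, k * ζ = ζ * k
  center : ∀ k : L, (∀ x : L, x * k = k * x) → k = 1 ∨ k = ζ
  comm : ∀ k : L, k ≠ 1 → k ≠ ζ → (k * k = 1 ∨ k * k = ζ) →
    ∃ u v : L, u * k = k * u ∧ v * k = k * v ∧ u * v = ζ * (v * u)
  cases : ∀ k : L, k * k = 1 → k ≠ 1 → k ≠ ζ → P k ∨ P (ζ * k) ∨ D k
  P_one : ∀ k : L, P k → k ≠ 1 ∧ k ≠ ζ ∧ k * k = 1
  D_one : ∀ k : L, D k → k ≠ 1 ∧ k ≠ ζ ∧ k * k = 1
  P_conj : ∀ k l : L, P k → P l → ∃ g : L, g * k * g⁻¹ = l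
  D_conj : ∀ k l : L, D k → D l → ∃ g : L, g * k * g⁻¹ = l
  D_neg : ∀ k : L, D k → D (ζ * k)
  odd : ∀ k : L, P k → ¬ 2 ∣ (centralizer {k} : Subgroup L).index
  label1 : ∀ k : L, P k → ∃ E : Subgroup L, E ≤ centralizer {k} ∧ IsPGroup 2 E ∧
    (∀ g ∈ (centralizer {k} : Subgroup L), ∀ x ∈ E, g * x * g⁻¹ ∈ E) ∧ ζ * k ∈ ⁅E, E⁆
  label2 : ∀ k : L, P k → ∀ Q : Subgroup L, Q ≤ centralizer {k} → IsPGroup 2 Q →
    (∀ g ∈ (centralizer {k} : Subgroup L), ∀ x ∈ Q, g * x * g⁻¹ ∈ Q) → ζ ∉ ⁅Q, Q⁆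
  tripleP : ∃ x y : L, x * y = y * x ∧ P x ∧ P y ∧ P (x * y)
  tripleD : ∃ x y : L, x * y = y * x ∧ D x ∧ D y ∧ P (x * y)

/-- The centralizer of the involution in the big group. -/
structure Cfg {G : Type*} [Group G] {L : Type*} [Group L] (ζ : L) (φ : L →* G) (R : Subgroup G) :
    Prop where
  inj : Function.Injective φ
  ζR : φ ζ ∈ R
  two : IsPGroup 2 R
  ab : ∀ r ∈ R, ∀ s ∈ R, r * s = s * r
  uniq : ∀ r ∈ R, r * r = 1 → r = 1 ∨ r = φ ζ
  comm : ∀ r ∈ R, ∀ k : L, r * φ k = φ k * r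
  cent : ∀ c : G, c * φ ζ = φ ζ * c → ∃ k : L, ∃ r ∈ R, c = φ k * r

variable {G : Type*} [Group G] {L : Type*} [Group L] {ζ : L} {P D : L → Prop} {φ : L →* G}
  {R : Subgroup G}

theorem mem_centralizer_iff' {A : Type*} [Group A] {x g : A} :
    g ∈ (centralizer {x} : Subgroup A) ↔ g * x = x * g := by
  rw [mem_centralizer_singleton_iff]

theorem Facts.centralizer_neg (F : Facts L ζ P D) (k : L) :
    (centralizer {ζ * k} : Subgroup L) = centralizer {k} := by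
  ext g
  rw [mem_centralizer_iff', mem_centralizer_iff', ← mul_assoc, F.cen g, mul_assoc, mul_assoc,
    mul_right_inj]

theorem Facts.neg_neg (F : Facts L ζ P D) (k : L) : ζ * (ζ * k) = k := by
  rw [← mul_assoc, F.sq, one_mul]

/-- Elements of `L` mapped into `R` are central. -/
theorem Cfg.mem_R (F : Facts L ζ P D) (C : Cfg ζ φ R) {k : L} (hk : φ k ∈ R) : k = 1 ∨ k = ζ := by
  apply F.center
  intro x
  apply C.inj
  rw [map_mul, map_mul]
  exact (C.comm _ hk x).symm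

/-- **(1A)** -/
theorem Cfg.exists_comm (F : Facts L ζ P D) (C : Cfg ζ φ R) {e : G} (he : e * φ ζ = φ ζ * e)
    (h2 : e * e = 1) (h1 : e ≠ 1) (hz : e ≠ φ ζ) :
    ∃ u v : G, u * φ ζ = φ ζ * u ∧ v * φ ζ = φ ζ * v ∧ u * e = e * u ∧ v * e = e * v ∧
      u * v = φ ζ * (v * u) := by
  obtain ⟨k, r, hr, rfl⟩ := C.cent e he
  have hkr : (φ k * r) * (φ k * r) = φ (k * k) * (r * r) := by
    rw [mul_assoc, ← mul_assoc r, C.comm r hr k, map_mul]
    simp only [mul_assoc]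
  rw [hkr] at h2
  have hkk : φ (k * k) = (r * r)⁻¹ := eq_inv_of_mul_eq_one_left h2
  have hkkR : φ (k * k) ∈ R := by
    rw [hkk]; exact R.inv_mem (R.mul_mem hr hr)
  have hk : ¬ φ k ∈ R := by
    intro hk
    have h3 : φ k * r ∈ R := R.mul_mem hk hr
    rcases C.uniq _ h3 (by rw [hkr, h2]) with h4 | h4
    · exact h1 h4
    · exact hz h4
  have hk1 : k ≠ 1 := by
    rintro rfl
    exact hk (by rw [map_one]; exact R.one_mem)
  have hkz : k ≠ ζ := by
    rintro rfl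
    exact hk C.ζR
  obtain ⟨u, v, hu, hv, huv⟩ := F.comm k hk1 hkz (C.mem_R F hkkR)
  refine ⟨φ u, φ v, ?_, ?_, ?_, ?_, ?_⟩
  · rw [← map_mul, ← map_mul, F.cen]
  · rw [← map_mul, ← map_mul, F.cen]
  · rw [← mul_assoc, ← map_mul, hu, map_mul, mul_assoc, mul_assoc, C.comm r hr u]
  · rw [← mul_assoc, ← map_mul, hv, map_mul, mul_assoc, mul_assoc, C.comm r hr v]
  · rw [← map_mul, ← map_mul, ← map_mul, huv]

theorem conj_comm {a b g : G} (h : a * b = b * a) : (g * a * g⁻¹) * (g * b * g⁻¹) = (g * b * g⁻¹) * (g * a * g⁻¹) := by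
  have h1 : (g * a * g⁻¹) * (g * b * g⁻¹) = g * (a * b) * g⁻¹ := by group
  have h2 : (g * b * g⁻¹) * (g * a * g⁻¹) = g * (b * a) * g⁻¹ := by group
  rw [h1, h2, h]

theorem Cfg.zz (F : Facts L ζ P D) : φ ζ * φ ζ = 1 := by
  rw [← map_mul, F.sq, map_one]

theorem Cfg.z_ne (F : Facts L ζ P D) (C : Cfg ζ φ R) : φ ζ ≠ 1 := by
  intro h
  exact F.one (C.inj (by rw [h, map_one]))

/-- **(1)** Conjugates of `z` in `C(z)` lie in `K`. -/
theorem Cfg.mem_K (F : Facts L ζ P D) (C : Cfg ζ φ R) {g : G}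
    (he : (g * φ ζ * g⁻¹) * φ ζ = φ ζ * (g * φ ζ * g⁻¹)) (hz : g * φ ζ * g⁻¹ ≠ φ ζ) :
    ∃ k : L, g * φ ζ * g⁻¹ = φ k ∧ k * k = 1 ∧ k ≠ 1 ∧ k ≠ ζ := by
  have h1 : (g⁻¹ * φ ζ * g) * φ ζ = φ ζ * (g⁻¹ * φ ζ * g) := by
    have h := conj_comm (g := g⁻¹) he
    have e1 : g⁻¹ * (g * φ ζ * g⁻¹) * g⁻¹⁻¹ = φ ζ := by group
    have e2 : g⁻¹ * φ ζ * g⁻¹⁻¹ = g⁻¹ * φ ζ * g := by group
    rw [e1, e2] at h
    exact h.symm
  have h2 : (g⁻¹ * φ ζ * g) * (g⁻¹ * φ ζ * g) = 1 := by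
    have : (g⁻¹ * φ ζ * g) * (g⁻¹ * φ ζ * g) = g⁻¹ * (φ ζ * φ ζ) * g := by group
    rw [this, Cfg.zz F]
    group
  have h3 : g⁻¹ * φ ζ * g ≠ 1 := by
    intro h
    apply C.z_ne F
    have : φ ζ = g * (g⁻¹ * φ ζ * g) * g⁻¹ := by group
    rw [this, h]
    group
  have h4 : g⁻¹ * φ ζ * g ≠ φ ζ := by
    intro h
    apply hz
    conv_lhs => rw [← h]
    group
  obtain ⟨u, v, hu, hv, hu', hv', huv⟩ := C.exists_comm F h1 h2 h3 h4
  -- transport by `g`
  have k1 : (g * u * g⁻¹) * φ ζ = φ ζ * (g * u * g⁻¹) := by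
    have h := conj_comm (g := g) hu'
    have e1 : g * (g⁻¹ * φ ζ * g) * g⁻¹ = φ ζ := by group
    rwa [e1] at h
  have k2 : (g * v * g⁻¹) * φ ζ = φ ζ * (g * v * g⁻¹) := by
    have h := conj_comm (g := g) hv'
    have e1 : g * (g⁻¹ * φ ζ * g) * g⁻¹ = φ ζ := by group
    rwa [e1] at h
  obtain ⟨a, r, hr, ha⟩ := C.cent _ k1
  obtain ⟨b, s, hs, hb⟩ := C.cent _ k2
  have h5 : g * φ ζ * g⁻¹ = φ (a * b * (b * a)⁻¹) := by
    have e1 : (g * u * g⁻¹) * (g * v * g⁻¹) = (g * φ ζ * g⁻¹) * ((g * v * g⁻¹) * (g * u * g⁻¹)) := by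
      have e2 : (g * u * g⁻¹) * (g * v * g⁻¹) = g * (u * v) * g⁻¹ := by group
      rw [e2, huv]
      group
    rw [ha, hb] at e1
    have e3 : φ a * r * (φ b * s) = φ (a * b) * (r * s) := by
      rw [mul_assoc, ← mul_assoc r, C.comm r hr b, map_mul]
      simp only [mul_assoc]
    have e4 : φ b * s * (φ a * r) = φ (b * a) * (r * s) := by
      rw [mul_assoc, ← mul_assoc s, C.comm s hs a, map_mul, C.ab r hr s hs]
      simp only [mul_assoc]
    rw [e3, e4, ← mul_assoc (g * φ ζ * g⁻¹), mul_left_inj] at e1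
    rw [map_mul, map_inv, e1]
    group
  refine ⟨a * b * (b * a)⁻¹, h5, ?_, ?_, ?_⟩
  · apply C.inj
    rw [map_mul, ← h5, map_one]
    have : (g * φ ζ * g⁻¹) * (g * φ ζ * g⁻¹) = g * (φ ζ * φ ζ) * g⁻¹ := by group
    rw [this, Cfg.zz F]
    group
  · intro h
    rw [h, map_one] at h5
    apply C.z_ne F
    have : φ ζ = g⁻¹ * (g * φ ζ * g⁻¹) * g := by group
    rw [this, h5]
    group
  · intro h
    rw [h] at h5
    exact hz h5

/-- **(1')** The same for a conjugate `x = g z g⁻¹`. -/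
theorem Cfg.mem_K' (F : Facts L ζ P D) (C : Cfg ζ φ R) {g h : G} {x y : G}
    (hx : g * φ ζ * g⁻¹ = x) (hy : h * φ ζ * h⁻¹ = y) (hxy : y * x = x * y) (hne : y ≠ x) :
    ∃ k : L, y = g * φ k * g⁻¹ ∧ k * k = 1 ∧ k ≠ 1 ∧ k ≠ ζ := by
  have e1 : (g⁻¹ * h) * φ ζ * (g⁻¹ * h)⁻¹ = g⁻¹ * y * g := by rw [← hy]; group
  have e2 : φ ζ = g⁻¹ * x * g := by rw [← hx]; group
  obtain ⟨k, hk, hk2⟩ := C.mem_K F (g := g⁻¹ * h) (by
    rw [e1, e2]
    have h1 : g⁻¹ * y * g * (g⁻¹ * x * g) = g⁻¹ * (y * x) * g := by group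
    have h2 : g⁻¹ * x * g * (g⁻¹ * y * g) = g⁻¹ * (x * y) * g := by group
    rw [h1, h2, hxy]) (by
    rw [e1, e2]
    intro h1
    apply hne
    have h2 : y = g * (g⁻¹ * y * g) * g⁻¹ := by group
    rw [h2, h1]
    group)
  refine ⟨k, ?_, hk2⟩
  rw [← hk, e1]
  group

/-! ### The order of `C(z, k)` -/

/-- The product map `C_L(k) × R → G`. -/
noncomputable def Cfg.prod (C : Cfg ζ φ R) (k : L) : (centralizer {k} : Subgroup L) × R →* G :=
  MonoidHom.noncommCoprod (φ.comp (centralizer {k} : Subgroup L).subtype) R.subtype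
    (fun l r => (C.comm r r.2 l).symm)

theorem Cfg.prod_apply (C : Cfg ζ φ R) (k : L) (x : (centralizer {k} : Subgroup L) × R) :
    C.prod k x = φ x.1 * (x.2 : G) := rfl

theorem Cfg.range_prod (F : Facts L ζ P D) (C : Cfg ζ φ R) (k : L) :
    (C.prod k).range = centralizer {φ ζ} ⊓ centralizer {φ k} := by
  ext c
  rw [MonoidHom.mem_range, mem_inf, mem_centralizer_iff', mem_centralizer_iff']
  constructor
  · rintro ⟨⟨l, r⟩, rfl⟩
    rw [C.prod_apply]
    have hl := mem_centralizer_iff'.1 l.2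
    constructor
    · show φ l * (r : G) * φ ζ = φ ζ * (φ l * (r : G))
      rw [mul_assoc, C.comm r r.2 ζ, ← mul_assoc, ← map_mul, F.cen, map_mul, mul_assoc]
    · show φ l * (r : G) * φ k = φ k * (φ l * (r : G))
      rw [mul_assoc, C.comm r r.2 k, ← mul_assoc, ← map_mul, hl, map_mul, mul_assoc]
  · rintro ⟨h1, h2⟩
    obtain ⟨l, r, hr, rfl⟩ := C.cent c h1
    have hl : l * k = k * l := by
      apply C.inj
      rw [map_mul, map_mul]
      rw [mul_assoc, C.comm r hr k, ← mul_assoc, ← mul_assoc, mul_left_inj] at h2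
      exact h2
    exact ⟨(⟨l, mem_centralizer_iff'.2 hl⟩, ⟨r, hr⟩), rfl⟩

theorem Cfg.card_ker (F : Facts L ζ P D) (C : Cfg ζ φ R) (k : L) :
    Nat.card (C.prod k).ker = 2 := by
  have hζ : ζ ∈ (centralizer {k} : Subgroup L) := mem_centralizer_iff'.2 (F.cen k).symm
  have hset : ((C.prod k).ker : Set ((centralizer {k} : Subgroup L) × R)) =
      {1, (⟨ζ, hζ⟩, ⟨φ ζ, C.ζR⟩)} := by
    ext ⟨l, r⟩
    rw [SetLike.mem_coe, MonoidHom.mem_ker, C.prod_apply, Set.mem_insert_iff, Set.mem_singleton_iff]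
    constructor
    · intro h
      have h' : φ l * (r : G) = 1 := h
      have hl : φ (l : L) ∈ R := by
        rw [eq_inv_of_mul_eq_one_left h']
        exact R.inv_mem r.2
      rcases C.mem_R F hl with h1 | h1
      · left
        rw [h1, map_one, one_mul] at h'
        exact Prod.ext (Subtype.ext h1) (Subtype.ext h')
      · right
        rw [h1] at h'
        have h2 : (r : G) = φ ζ := by
          rw [← mul_right_inj (φ ζ), h', Cfg.zz F]
        exact Prod.ext (Subtype.ext h1) (Subtype.ext h2)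
    · rintro (h | h)
      · have h1 : l = 1 := congrArg Prod.fst h
        have h2 : r = 1 := congrArg Prod.snd h
        rw [h1, h2]
        show φ ((1 : (centralizer {k} : Subgroup L)) : L) * ((1 : R) : G) = 1
        rw [coe_one, coe_one, map_one, one_mul]
      · have h1 : l = ⟨ζ, hζ⟩ := congrArg Prod.fst h
        have h2 : r = ⟨φ ζ, C.ζR⟩ := congrArg Prod.snd h
        rw [h1, h2]
        exact Cfg.zz F
  have h1 : Nat.card (C.prod k).ker =
      ({1, (⟨ζ, hζ⟩, ⟨φ ζ, C.ζR⟩)} : Set ((centralizer {k} : Subgroup L) × R)).ncard := by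
    rw [← hset]
    rfl
  rw [h1, Set.ncard_pair]
  intro h
  apply F.one
  exact (congrArg (fun x : (centralizer {k} : Subgroup L) × R => (x.1 : L)) h).symm

theorem Cfg.card_eq [Finite G] (F : Facts L ζ P D) (C : Cfg ζ φ R) (k : L) :
    Nat.card (centralizer {k} : Subgroup L) * Nat.card R =
      2 * Nat.card (centralizer {φ ζ} ⊓ centralizer {φ k} : Subgroup G) := by
  have h := Subgroup.card_eq_card_quotient_mul_card_subgroup (C.prod k).ker
  rw [Nat.card_prod, C.card_ker F, Nat.card_congr (QuotientGroup.quotientKerEquivRange (C.prod k)).toEquiv,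
    C.range_prod F] at h
  rw [h, mul_comm]

/-! ### Conjugate to the negative -/

theorem even_index [Finite L] (F : Facts L ζ P D) {k g : L} (h : g * k * g⁻¹ = ζ * k) :
    2 ∣ (centralizer {k} : Subgroup L).index := by
  classical
  -- the subgroup fixing `{k, ζ k}`
  let T : Subgroup L :=
    { carrier := {x | x * k * x⁻¹ = k ∨ x * k * x⁻¹ = ζ * k}
      one_mem' := Or.inl (by group)
      mul_mem' := by
        rintro a b (ha | ha) (hb | hb)
        · left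
          have : a * b * k * (a * b)⁻¹ = a * (b * k * b⁻¹) * a⁻¹ := by group
          rw [this, hb, ha]
        · right
          have : a * b * k * (a * b)⁻¹ = a * (b * k * b⁻¹) * a⁻¹ := by group
          rw [this, hb, ← mul_assoc, F.cen, mul_assoc, mul_assoc, ← mul_assoc a, ha]
        · right
          have : a * b * k * (a * b)⁻¹ = a * (b * k * b⁻¹) * a⁻¹ := by group
          rw [this, hb, ha]
        · left
          have : a * b * k * (a * b)⁻¹ = a * (b * k * b⁻¹) * a⁻¹ := by group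
          rw [this, hb, ← mul_assoc, F.cen, mul_assoc, mul_assoc, ← mul_assoc a, ha, ← mul_assoc,
            F.sq, one_mul]
      inv_mem' := by
        rintro a (ha | ha)
        · left
          have : k = a⁻¹ * (a * k * a⁻¹) * a := by group
          rw [inv_inv]
          conv_rhs => rw [this, ha]
        · right
          have h1 : a⁻¹ * (ζ * k) * a = k := by rw [← ha]; group
          rw [inv_inv]
          have h2 : a⁻¹ * (ζ * k) * a = ζ * (a⁻¹ * k * a) := by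
            rw [← mul_assoc, F.cen, mul_assoc, mul_assoc, mul_assoc]
          rw [h2] at h1
          rw [← h1, F.neg_neg, h1] }
  have hle : (centralizer {k} : Subgroup L) ≤ T := by
    intro x hx
    left
    rw [mem_centralizer_iff'.1 hx, mul_inv_cancel_right]
  have hg : g ∈ T := Or.inr h
  have hrel : (centralizer {k} : Subgroup L).relIndex T = 2 := by
    rw [relIndex, index_eq_two_iff]
    refine ⟨⟨g, hg⟩, fun b => ?_⟩
    rw [mem_subgroupOf, mem_subgroupOf, mem_centralizer_iff', mem_centralizer_iff']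
    have hgk : g * k = ζ * k * g := by rw [← h]; group
    have hne : k ≠ ζ * k := by
      intro h1
      apply F.one
      exact (mul_eq_right.1 h1.symm)
    rcases b.2 with hb | hb
    · have hb' : (b : L) * k = k * b := by
        conv_rhs => rw [← hb]
        group
      refine Or.inr ⟨hb', ?_⟩
      intro h1
      have h1' : (b : L) * g * k = k * (b * g) := h1
      rw [mul_assoc, hgk] at h1'
      apply hne
      have h2 : (b : L) * (ζ * k * g) = (ζ * k) * (b * g) := by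
        rw [mul_assoc, ← mul_assoc (b : L), F.cen, mul_assoc, ← mul_assoc (b : L), hb']
        simp only [mul_assoc]
      rw [h2, mul_left_inj] at h1'
      exact h1'.symm
    · have hb' : (b : L) * k = ζ * k * b := by
        rw [← hb]
        group
      refine Or.inl ⟨?_, ?_⟩
      · show (b : L) * g * k = k * (b * g)
        rw [mul_assoc, hgk, mul_assoc, ← mul_assoc (b : L), F.cen, mul_assoc, ← mul_assoc (b : L), hb']
        have : ζ * (ζ * k * ↑b * g) = ζ * (ζ * k) * (↑b * g) := by simp only [mul_assoc]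
        rw [this, F.neg_neg]
      · intro h1
        rw [hb'] at h1
        apply hne
        rw [mul_left_inj] at h1
        exact h1.symm
  have h2 := relIndex_mul_index hle
  rw [hrel] at h2
  exact ⟨_, h2.symm⟩

/-! ### (2): the negatives -/

/-- Conjugation of centralizers. -/
theorem mem_conj_iff {x c g : G} : c * (g * x * g⁻¹) = (g * x * g⁻¹) * c ↔
    (g⁻¹ * c * g) * x = x * (g⁻¹ * c * g) := by
  have e1 : c * (g * x * g⁻¹) = g * ((g⁻¹ * c * g) * x) * g⁻¹ := by group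
  have e2 : (g * x * g⁻¹) * c = g * (x * (g⁻¹ * c * g)) * g⁻¹ := by group
  rw [e1, e2, mul_left_inj, mul_right_inj]

/-- `X` has a normal 2-subgroup whose commutator subgroup contains `w`. -/
def Lab (X : Subgroup G) (w : G) : Prop :=
  ∃ Q : Subgroup G, Q ≤ X ∧ IsPGroup 2 Q ∧ (∀ c ∈ X, ∀ x ∈ Q, c * x * c⁻¹ ∈ Q) ∧ w ∈ ⁅Q, Q⁆

theorem Lab.conj {X Y : Subgroup G} {w : G} (h : Lab X w) (g : G)
    (hXY : ∀ c, c ∈ Y ↔ g * c * g⁻¹ ∈ X) : Lab Y (g⁻¹ * w * g) := by
  obtain ⟨Q, hQX, hQ2, hQn, hw⟩ := h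
  refine ⟨Q.map (MulAut.conj g⁻¹).toMonoidHom, ?_, hQ2.map _, ?_, ?_⟩
  · rintro _ ⟨x, hx, rfl⟩
    rw [hXY]
    have : g * (MulAut.conj g⁻¹).toMonoidHom x * g⁻¹ = x := by
      show g * (g⁻¹ * x * g⁻¹⁻¹) * g⁻¹ = x
      group
    rw [this]
    exact hQX hx
  · rintro c hc _ ⟨x, hx, rfl⟩
    refine ⟨(g * c * g⁻¹) * x * (g * c * g⁻¹)⁻¹, hQn _ ((hXY c).1 hc) x hx, ?_⟩
    show g⁻¹ * ((g * c * g⁻¹) * x * (g * c * g⁻¹)⁻¹) * g⁻¹⁻¹ = c * (g⁻¹ * x * g⁻¹⁻¹) * c⁻¹
    group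
  · rw [← map_commutator]
    refine ⟨w, hw, ?_⟩
    show g⁻¹ * w * g⁻¹⁻¹ = g⁻¹ * w * g
    group

/-- From the point of view of `z`. -/
theorem Cfg.lab_minus (F : Facts L ζ P D) (C : Cfg ζ φ R) {k : L} (hk : P k) :
    Lab (centralizer {φ ζ} ⊓ centralizer {φ (ζ * k)}) (φ (ζ * k)) := by
  obtain ⟨E, hE, hE2, hEn, hw⟩ := F.label1 k hk
  refine ⟨E.map φ, ?_, hE2.map _, ?_, ?_⟩
  · rintro _ ⟨x, hx, rfl⟩
    have hx' := hE hx
    rw [← F.centralizer_neg, mem_centralizer_iff'] at hx'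
    rw [mem_inf, mem_centralizer_iff', mem_centralizer_iff']
    constructor
    · rw [← map_mul, F.cen, map_mul]
    · rw [← map_mul, hx', map_mul]
  · rintro c hc _ ⟨x, hx, rfl⟩
    rw [← C.range_prod F, MonoidHom.mem_range] at hc
    obtain ⟨⟨l, r⟩, rfl⟩ := hc
    refine ⟨l * x * (l : L)⁻¹, hEn l ?_ x hx, ?_⟩
    · rw [← F.centralizer_neg]; exact l.2
    · rw [C.prod_apply, map_mul, map_mul, map_inv, mul_inv_rev]
      have h1 := C.comm r r.2 x
      have h2 := C.comm (r : G)⁻¹ (R.inv_mem r.2) (l : L)⁻¹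
      show φ l * φ x * (φ l)⁻¹ = φ l * (r : G) * φ x * ((r : G)⁻¹ * (φ l)⁻¹)
      rw [mul_assoc (φ l) (r : G), h1]
      group
  · rw [← map_commutator]
    exact ⟨_, hw, rfl⟩

/-- From the point of view of the other element. -/
theorem Cfg.not_lab (F : Facts L ζ P D) (C : Cfg ζ φ R) {k : L} (hk : P k) :
    ¬ Lab (centralizer {φ ζ} ⊓ centralizer {φ k}) (φ ζ) := by
  rintro ⟨Q, hQX, hQ2, hQn, hw⟩
  have hRQ : R ≤ normalizer (Q : Set G) := by
    intro r hr
    have hrX : r ∈ (centralizer {φ ζ} ⊓ centralizer {φ k} : Subgroup G) := by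
      rw [mem_inf, mem_centralizer_iff', mem_centralizer_iff']
      exact ⟨C.comm r hr ζ, C.comm r hr k⟩
    rw [mem_normalizer_iff]
    intro x
    constructor
    · exact fun hx => hQn r hrX x hx
    · intro hx
      have h1 := hQn r⁻¹ (Subgroup.inv_mem _ hrX) _ hx
      have h2 : r⁻¹ * (r * x * r⁻¹) * r⁻¹⁻¹ = x := by group
      rwa [h2] at h1
  have hQR2 : IsPGroup 2 (R ⊔ Q : Subgroup G) := IsPGroup.to_sup_of_normal_right' C.two hQ2 hRQ
  have hRX : R ≤ (centralizer {φ ζ} ⊓ centralizer {φ k} : Subgroup G) := by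
    intro r hr
    rw [mem_inf, mem_centralizer_iff', mem_centralizer_iff']
    exact ⟨C.comm r hr ζ, C.comm r hr k⟩
  apply F.label2 k hk ((R ⊔ Q : Subgroup G).comap φ)
  · intro x hx
    have h1 : φ x ∈ (centralizer {φ ζ} ⊓ centralizer {φ k} : Subgroup G) := sup_le hRX hQX hx
    rw [mem_inf, mem_centralizer_iff', mem_centralizer_iff'] at h1
    rw [mem_centralizer_iff']
    apply C.inj
    rw [map_mul, map_mul, h1.2]
  · exact hQR2.comap_of_injective φ C.inj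
  · intro g hg x hx
    rw [mem_comap] at hx ⊢
    rw [map_mul, map_mul, map_inv]
    have hgX : φ g ∈ (centralizer {φ ζ} ⊓ centralizer {φ k} : Subgroup G) := by
      rw [mem_inf, mem_centralizer_iff', mem_centralizer_iff', ← map_mul, ← map_mul, ← map_mul,
        ← map_mul, F.cen, mem_centralizer_iff'.1 hg]
      exact ⟨rfl, rfl⟩
    have h1 : ∀ y ∈ (R ⊔ Q : Subgroup G), φ g * y * (φ g)⁻¹ ∈ (R ⊔ Q : Subgroup G) := by
      have h2 : (R ⊔ Q : Subgroup G) ≤ (R ⊔ Q : Subgroup G).comap (MulAut.conj (φ g)).toMonoidHom := by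
        apply sup_le
        · intro r hr
          rw [mem_comap]
          show φ g * r * (φ g)⁻¹ ∈ _
          rw [← C.comm r hr g, mul_inv_cancel_right]
          exact mem_sup_left hr
        · intro y hy
          rw [mem_comap]
          exact mem_sup_right (hQn _ hgX y hy)
      exact fun y hy => h2 hy
    exact h1 _ hx
  · have h1 : ⁅Q, Q⁆ ≤ (⁅(R ⊔ Q : Subgroup G).comap φ, (R ⊔ Q : Subgroup G).comap φ⁆).map φ := by
      rw [commutator_le]
      intro a ha b hb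
      have ha' := hQX ha
      have hb' := hQX hb
      rw [← C.range_prod F, MonoidHom.mem_range] at ha' hb'
      obtain ⟨⟨a1, r⟩, har⟩ := ha'
      obtain ⟨⟨b1, s⟩, hbs⟩ := hb'
      rw [C.prod_apply] at har hbs
      have har' : φ a1 * (r : G) = a := har
      have hbs' : φ b1 * (s : G) = b := hbs
      have ka : φ a1 ∈ (R ⊔ Q : Subgroup G) := by
        have : φ a1 = a * (r : G)⁻¹ := by rw [← har', mul_inv_cancel_right]
        rw [this]
        exact Subgroup.mul_mem _ (mem_sup_right ha) (mem_sup_left (R.inv_mem r.2))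
      have kb : φ b1 ∈ (R ⊔ Q : Subgroup G) := by
        have : φ b1 = b * (s : G)⁻¹ := by rw [← hbs', mul_inv_cancel_right]
        rw [this]
        exact Subgroup.mul_mem _ (mem_sup_right hb) (mem_sup_left (R.inv_mem s.2))
      refine ⟨⁅(a1 : L), (b1 : L)⁆, commutator_mem_commutator ka kb, ?_⟩
      rw [map_commutatorElement, ← har', ← hbs']
      have c1 : ⁅φ a1 * (r : G), φ b1 * (s : G)⁆ = ⁅φ (a1 : L), φ (b1 : L)⁆ := by
        have e1 := C.comm r r.2 (b1 : L)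
        have e2 := C.comm s s.2 (a1 : L)
        have e3 := C.ab r r.2 s s.2
        have m1 : φ a1 * (r : G) * (φ b1 * (s : G)) = φ a1 * φ b1 * ((r : G) * s) := by
          rw [mul_assoc, ← mul_assoc (r : G), e1]
          simp only [mul_assoc]
        have m2 : φ b1 * (s : G) * (φ a1 * (r : G)) = φ b1 * φ a1 * ((r : G) * s) := by
          rw [mul_assoc, ← mul_assoc (s : G), e2, e3]
          simp only [mul_assoc]
        rw [commutatorElement_def, commutatorElement_def]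
        have m3 : φ a1 * (r : G) * (φ b1 * (s : G)) * (φ a1 * (r : G))⁻¹ * (φ b1 * (s : G))⁻¹ =
            φ a1 * (r : G) * (φ b1 * (s : G)) * (φ b1 * (s : G) * (φ a1 * (r : G)))⁻¹ := by group
        have m4 : φ a1 * φ b1 * (φ a1)⁻¹ * (φ b1)⁻¹ = φ (a1 : L) * φ (b1 : L) * (φ b1 * φ a1)⁻¹ := by
          group
        rw [m3, m1, m2, m4]
        group
      exact c1.symm
    obtain ⟨y, hy, hy'⟩ := h1 hw
    rw [C.inj hy'] at hy
    exact hy

/-- **(2)** -/
theorem Cfg.no_minus [Finite G] (F : Facts L ζ P D) (C : Cfg ζ φ R) {k : L} (hk : P k) (g : G) :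
    g * φ ζ * g⁻¹ ≠ φ (ζ * k) := by
  intro hg
  have hfin : Finite L := Finite.of_injective φ C.inj
  obtain ⟨h1, h2, h3⟩ := F.P_one k hk
  have hcomm : (g * φ ζ * g⁻¹) * φ ζ = φ ζ * (g * φ ζ * g⁻¹) := by
    rw [hg, ← map_mul, F.cen, map_mul]
  have hne : φ ζ ≠ g * φ ζ * g⁻¹ := by
    rw [hg]
    intro h
    have := C.inj h
    exact h1 (mul_eq_left.1 this.symm)
  -- `z` seen from `e`
  obtain ⟨k', hk', hk2, hk1, hkz⟩ := C.mem_K' F (g := g) (h := 1) (x := g * φ ζ * g⁻¹) (y := φ ζ)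
    rfl (by group) hcomm.symm hne
  have hX : ∀ c, c ∈ (centralizer {φ ζ} ⊓ centralizer {φ k'} : Subgroup G) ↔
      g * c * g⁻¹ ∈ (centralizer {φ ζ} ⊓ centralizer {φ (ζ * k)} : Subgroup G) := by
    intro c
    rw [mem_inf, mem_inf, mem_centralizer_iff', mem_centralizer_iff', mem_centralizer_iff',
      mem_centralizer_iff', ← hg]
    have e1 : g⁻¹ * (g * c * g⁻¹) * g = c := by group
    have a1 : (g * c * g⁻¹) * (g * φ ζ * g⁻¹) = (g * φ ζ * g⁻¹) * (g * c * g⁻¹) ↔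
        c * φ ζ = φ ζ * c := by rw [mem_conj_iff, e1]
    have a2 : (g * c * g⁻¹) * φ ζ = φ ζ * (g * c * g⁻¹) ↔ c * φ k' = φ k' * c := by
      have : (g * c * g⁻¹) * (g * φ k' * g⁻¹) = (g * φ k' * g⁻¹) * (g * c * g⁻¹) ↔
        c * φ k' = φ k' * c := by rw [mem_conj_iff, e1]
      rwa [← hk'] at this
    rw [a1, a2, and_comm]
  have hlab := (C.lab_minus F hk).conj g hX
  have hlab' : Lab (centralizer {φ ζ} ⊓ centralizer {φ k'} : Subgroup G) (φ ζ) := by
    have : g⁻¹ * φ (ζ * k) * g = φ ζ := by rw [← hg]; group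
    rwa [this] at hlab
  -- the orders
  have hcard : Nat.card (centralizer {φ ζ} ⊓ centralizer {φ k'} : Subgroup G) =
      Nat.card (centralizer {φ ζ} ⊓ centralizer {φ (ζ * k)} : Subgroup G) := by
    apply Nat.card_congr
    exact
      { toFun := fun c => ⟨g * c * g⁻¹, (hX c).1 c.2⟩
        invFun := fun c => ⟨g⁻¹ * c * g, (hX _).2 (by
          have : g * (g⁻¹ * (c : G) * g) * g⁻¹ = c := by group
          rw [this]; exact c.2)⟩
        left_inv := fun c => Subtype.ext (by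
          show g⁻¹ * (g * (c : G) * g⁻¹) * g = c
          group)
        right_inv := fun c => Subtype.ext (by
          show g * (g⁻¹ * (c : G) * g) * g⁻¹ = c
          group) }
  have hN : Nat.card (centralizer {k'} : Subgroup L) = Nat.card (centralizer {k} : Subgroup L) := by
    have e1 := C.card_eq F k'
    have e2 := C.card_eq F (ζ * k)
    rw [F.centralizer_neg] at e2
    rw [hcard, ← e2] at e1
    exact Nat.eq_of_mul_eq_mul_right Nat.card_pos e1
  have hidx : (centralizer {k'} : Subgroup L).index = (centralizer {k} : Subgroup L).index := by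
    have e1 := (centralizer {k'} : Subgroup L).card_mul_index
    have e2 := (centralizer {k} : Subgroup L).card_mul_index
    rw [hN, ← e2] at e1
    exact Nat.eq_of_mul_eq_mul_left Nat.card_pos e1
  have hodd : ¬ 2 ∣ (centralizer {k'} : Subgroup L).index := hidx ▸ F.odd k hk
  rcases F.cases k' hk2 hk1 hkz with h | h | h
  · exact C.not_lab F h hlab'
  · apply C.not_lab F h
    have : (centralizer {φ ζ} ⊓ centralizer {φ (ζ * k')} : Subgroup G) =
        centralizer {φ ζ} ⊓ centralizer {φ k'} := by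
      rw [← C.range_prod F, ← C.range_prod F]
      ext c
      rw [MonoidHom.mem_range, MonoidHom.mem_range]
      constructor
      · rintro ⟨⟨⟨l, hl⟩, r⟩, rfl⟩
        exact ⟨(⟨l, by rw [← F.centralizer_neg]; exact hl⟩, r), rfl⟩
      · rintro ⟨⟨⟨l, hl⟩, r⟩, rfl⟩
        exact ⟨(⟨l, by rw [F.centralizer_neg]; exact hl⟩, r), rfl⟩
    rw [this]
    exact hlab'
  · obtain ⟨l, hl⟩ := F.D_conj k' (ζ * k') h (F.D_neg k' h)
    exact hodd (even_index F hl)

/-- **(3)** -/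
theorem Cfg.no_plus [Finite G] (F : Facts L ζ P D) (C : Cfg ζ φ R) {k : L} (hk : P k) (g : G) :
    g * φ ζ * g⁻¹ ≠ φ k := by
  intro hg
  obtain ⟨x0, y0, hxy, hx0, hy0, hxy0⟩ := F.tripleP
  -- all elements of type `P` are conjugate to `z`
  have hP : ∀ l : L, P l → ∃ h : G, h * φ ζ * h⁻¹ = φ l := by
    intro l hl
    obtain ⟨a, ha⟩ := F.P_conj k l hk hl
    refine ⟨φ a * g, ?_⟩
    rw [← ha, map_mul, map_mul, map_inv, ← hg]
    group
  obtain ⟨a, ha⟩ := hP x0 hx0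
  obtain ⟨b, hb⟩ := hP y0 hy0
  obtain ⟨c, hc⟩ := hP _ hxy0
  obtain ⟨hx1, hxz, hxx⟩ := F.P_one x0 hx0
  obtain ⟨hy1, hyz, hyy⟩ := F.P_one y0 hy0
  obtain ⟨hw1, hwz, -⟩ := F.P_one _ hxy0
  have hyx : φ y0 * φ x0 = φ x0 * φ y0 := by rw [← map_mul, ← map_mul, hxy]
  -- `y` and `z` seen from `x`
  obtain ⟨ky, hky, hky2, hky1, hkyz⟩ := C.mem_K' F ha hb hyx (by
    intro h
    have h1 := C.inj h
    rw [h1, hxx] at hw1
    exact hw1 rfl)
  obtain ⟨kz, hkz, hkz2, hkz1, hkzz⟩ := C.mem_K' F (h := 1) (y := φ ζ) ha (by group)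
    (by rw [← map_mul, ← map_mul, F.cen]) (fun h => hxz (C.inj h).symm)
  -- transport of types
  have tr : ∀ l : L, (∃ h : G, h * φ ζ * h⁻¹ = φ l) → ∃ h : G, h * φ ζ * h⁻¹ = a * φ l * a⁻¹ := by
    rintro l ⟨h, hh⟩
    refine ⟨a * h, ?_⟩
    rw [← hh]
    group
  have tr' : ∀ l : L, (∃ h : G, h * φ ζ * h⁻¹ = a * φ l * a⁻¹) → ∃ h : G, h * φ ζ * h⁻¹ = φ l := by
    rintro l ⟨h, hh⟩
    refine ⟨a⁻¹ * h, ?_⟩
    have : a⁻¹ * h * φ ζ * (a⁻¹ * h)⁻¹ = a⁻¹ * (h * φ ζ * h⁻¹) * a := by group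
    rw [this, hh]
    group
  -- `w = y z`
  have hw : φ (ζ * y0) = a * φ (ky * kz) * a⁻¹ := by
    rw [map_mul, map_mul, ← map_mul, ← F.cen, map_mul, hky, hkz]
    group
  have hwx : φ (ζ * (x0 * y0)) = a * φ (ζ * (ky * kz)) * a⁻¹ := by
    have h1 : ζ * (x0 * y0) = x0 * (ζ * y0) := by
      rw [← mul_assoc, ← F.cen, mul_assoc]
    rw [h1, map_mul, hw, ← ha, map_mul φ ζ]
    group
  have hcomm : ky * kz = kz * ky := by
    apply C.inj
    have h1 : φ (y0) * φ ζ = φ ζ * φ y0 := by rw [← map_mul, F.cen, map_mul]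
    rw [hky] at h1
    have h2 : a * φ ky * a⁻¹ * φ ζ = a * (φ ky * φ kz) * a⁻¹ := by
      conv_lhs => rw [hkz]
      group
    have h3 : φ ζ * (a * φ ky * a⁻¹) = a * (φ kz * φ ky) * a⁻¹ := by
      conv_lhs => rw [hkz]
      group
    rw [h2, h3, mul_left_inj, mul_right_inj] at h1
    rw [map_mul, map_mul, h1]
  have hkw2 : (ky * kz) * (ky * kz) = 1 := by
    rw [mul_assoc, ← mul_assoc kz, ← hcomm, mul_assoc, hkz2, mul_one, hky2]
  have hkw1 : ky * kz ≠ 1 := by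
    intro h
    rw [h, map_one, mul_one, mul_inv_cancel, ← map_one φ] at hw
    have h1 := C.inj hw
    have h2 : y0 = ζ := by rw [← F.neg_neg y0, h1, mul_one]
    exact hyz h2
  have hkwz : ky * kz ≠ ζ := by
    intro h
    rw [h, F.sq, map_one, mul_one, mul_inv_cancel, ← map_one φ] at hwx
    have h1 := C.inj hwx
    apply hwz
    rw [← F.neg_neg (x0 * y0), h1, mul_one]
  rcases F.cases _ hkw2 hkw1 hkwz with h | h | h
  · obtain ⟨d, hd⟩ := tr _ (hP _ h)
    rw [← hw] at hd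
    exact C.no_minus F hy0 d hd
  · obtain ⟨d, hd⟩ := tr _ (hP _ h)
    rw [← hwx] at hd
    exact C.no_minus F hxy0 d hd
  · -- no element of type `D` is conjugate to `z`
    have hD : ∀ l : L, D l → ∀ d : G, d * φ ζ * d⁻¹ ≠ φ l := by
      intro l hl d hd
      obtain ⟨m, hm⟩ := F.D_conj l _ hl h
      have h1 : ∃ q : G, q * φ ζ * q⁻¹ = φ (ky * kz) := by
        refine ⟨φ m * d, ?_⟩
        rw [← hm, map_mul φ _ m⁻¹, map_mul φ m, map_inv, ← hd]
        group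
      obtain ⟨d', hd'⟩ := tr _ h1
      rw [← hw] at hd'
      exact C.no_minus F hy0 d' hd'
    have hy' : ∃ q : G, q * φ ζ * q⁻¹ = φ ky := tr' ky ⟨b, by rw [hb, hky]⟩
    rcases F.cases _ hky2 hky1 hkyz with h' | h' | h'
    · -- `x y` would be of type `- P`
      have h1 : ∃ q : G, q * φ ζ * q⁻¹ = φ (ζ * ky) := by
        apply tr'
        refine ⟨c, ?_⟩
        rw [hc, map_mul, map_mul φ ζ, hky, ← ha]
        group
      obtain ⟨q, hq⟩ := h1
      exact C.no_minus F h' q hq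
    · obtain ⟨q, hq⟩ := hy'
      rw [← F.neg_neg ky] at hq
      exact C.no_minus F h' q hq
    · obtain ⟨q, hq⟩ := hy'
      exact hD _ h' q hq

/-- **(4)** -/
theorem Cfg.no_dod [Finite G] (F : Facts L ζ P D) (C : Cfg ζ φ R) {k : L} (hk : D k) (g : G) :
    g * φ ζ * g⁻¹ ≠ φ k := by
  intro hg
  obtain ⟨x0, y0, hxy, hx0, hy0, hxy0⟩ := F.tripleD
  have hD : ∀ l : L, D l → ∃ h : G, h * φ ζ * h⁻¹ = φ l := by
    intro l hl
    obtain ⟨a, ha⟩ := F.D_conj k l hk hl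
    refine ⟨φ a * g, ?_⟩
    rw [← ha, map_mul, map_mul, map_inv, ← hg]
    group
  obtain ⟨a, ha⟩ := hD x0 hx0
  obtain ⟨b, hb⟩ := hD y0 hy0
  obtain ⟨hx1, hxz, hxx⟩ := F.D_one x0 hx0
  obtain ⟨hw1, hwz, -⟩ := F.P_one _ hxy0
  have hyx : φ y0 * φ x0 = φ x0 * φ y0 := by rw [← map_mul, ← map_mul, hxy]
  obtain ⟨ky, hky, hky2, hky1, hkyz⟩ := C.mem_K' F ha hb hyx (by
    intro h
    have h1 := C.inj h
    rw [h1, hxx] at hw1
    exact hw1 rfl)
  have tr' : ∀ l : L, (∃ h : G, h * φ ζ * h⁻¹ = a * φ l * a⁻¹) → ∃ h : G, h * φ ζ * h⁻¹ = φ l := by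
    rintro l ⟨h, hh⟩
    refine ⟨a⁻¹ * h, ?_⟩
    have : a⁻¹ * h * φ ζ * (a⁻¹ * h)⁻¹ = a⁻¹ * (h * φ ζ * h⁻¹) * a := by group
    rw [this, hh]
    group
  have hy' : ∃ q : G, q * φ ζ * q⁻¹ = φ ky := tr' ky ⟨b, by rw [hb, hky]⟩
  rcases F.cases _ hky2 hky1 hkyz with h' | h' | h'
  · obtain ⟨q, hq⟩ := hy'
    exact C.no_plus F h' q hq
  · obtain ⟨q, hq⟩ := hy'
    rw [← F.neg_neg ky] at hq
    exact C.no_minus F h' q hq
  · obtain ⟨q, hq⟩ := hD _ (F.D_neg _ h')
    apply C.no_plus F hxy0 (a * q)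
    have : a * q * φ ζ * (a * q)⁻¹ = a * (q * φ ζ * q⁻¹) * a⁻¹ := by group
    rw [this, hq, map_mul, map_mul φ x0, hky, ← ha]
    group

/-- **The theorem**: `z` commutes with no other conjugate of itself. -/
theorem Cfg.isolated [Finite G] (F : Facts L ζ P D) (C : Cfg ζ φ R) (g : G)
    (h : (g * φ ζ * g⁻¹) * φ ζ = φ ζ * (g * φ ζ * g⁻¹)) : g * φ ζ * g⁻¹ = φ ζ := by
  by_contra hne
  obtain ⟨k, hk, h2, h1, hz⟩ := C.mem_K F h hne
  rcases F.cases k h2 h1 hz with h' | h' | h'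
  · exact C.no_plus F h' g hk
  · rw [← F.neg_neg k] at hk
    exact C.no_minus F h' g hk
  · exact C.no_dod F h' g hk

end Cfsg.Agent.OddHalf.D9.Isolated

end

-- merged: Cfsg.Agent.OddHalf.D9.Co1.Label
section

/-!
# Normal 2-subgroups of the centralizer of an octad sign change in `Co0`

`comm_le_Rh`: a 2-subgroup `Q` of `C0 o` normalised by `C0 o` acts diagonally on the lattice vectors
`8 e_i`, `i ∈ o`; so `⁅Q, Q⁆ ≤ Rh o`, in particular `-1 ∉ ⁅Q, Q⁆`.
-/

set_option autoImplicit false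
open Cfsg
open scoped Pointwise commutatorElement

namespace Cfsg.Agent.OddHalf.D9.Co1.Label

open Cfsg.Agent.SporadicA.Co0Mono Cfsg.Agent.SporadicA.Co1Simple
open Cfsg.Agent.SporadicStructure.Co0Base (e8 e8_coe)
open Cfsg.Agent.CoOneType.SignFacts (sup mem_sup notMem_sup wt sup_mem)
open Cfsg.Agent.CoOneType.CentOctad (C0 mem_C0 sign_mem perm_mem xi_mem exists_sextet)
open Cfsg.Agent.KFacts.Co1.OctGen (mem_N_of_smul_e8 sign_inj)
open Cfsg.Agent.KFacts.Co1.OctPts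
open Cfsg.Agent.KFacts.Co1.RHat
open Cfsg.Agent.KFacts.Co1
open Cfsg.Agent.SporadicA

variable {o : golayCode}

theorem xi_e8_ne_zero {T : GolayPt → Fin 6} (hT : Xi.IsSextet T) (i j : GolayPt) :
    ((Xi.xiCo0 T hT • e8 j : leechLattice) : GolayPt → ℤ) i ≠ 0 ↔ T i = T j := by
  rw [Cfsg.Agent.CoOneType.InvClasses.xi_e8 hT]
  constructor
  · intro h
    by_contra hne
    apply h
    have hij : ¬ i = j := fun h => hne (by rw [h])
    rw [if_neg hne, if_neg hij, sub_zero, mul_zero]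
  · intro h
    rw [if_pos h]
    split_ifs <;> norm_num

/-- A monomial element which stays monomial under conjugation with `ξ_T` permutes the tetrads. -/
theorem tetrad {T : GolayPt → Fin 6} (hT : Xi.IsSextet T) {c : golayCode} {σ : M24}
    (h : (Xi.xiCo0 T hT)⁻¹ * (signCo0 c * permCo0 σ) * Xi.xiCo0 T hT ∈ N) (j : GolayPt) :
    ∃ k : Fin 6, ∀ i, T i = T j ↔ T ((σ : Equiv.Perm GolayPt) i) = k := by
  set x := Xi.xiCo0 T hT with hx
  have h1 : (x⁻¹ * (signCo0 c * permCo0 σ) * x) • e8 j ∈ crossSet := by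
    obtain ⟨d, τ, hd⟩ := exists_sign_perm h
    rw [hd, mul_smul, perm_smul_e8, mem_crossSet]
    exact ⟨_, sgn_smul_e8 d _⟩
  rw [mem_crossSet] at h1
  obtain ⟨m, hm⟩ := h1
  refine ⟨T m, fun i => ?_⟩
  have h2 : (signCo0 c * permCo0 σ) • (x • e8 j) = x • ((x⁻¹ * (signCo0 c * permCo0 σ) * x) • e8 j) := by
    rw [← mul_smul, ← mul_smul]
    congr 1
    group
  have h3 : (((signCo0 c * permCo0 σ) • (x • e8 j) : leechLattice) : GolayPt → ℤ)
      ((σ : Equiv.Perm GolayPt) i) ≠ 0 ↔ ((x • e8 j : leechLattice) : GolayPt → ℤ) i ≠ 0 := by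
    rw [mul_smul, signCo0_smul, signMap_apply, permCo0_smul, permMap_apply, Equiv.symm_apply_apply]
    have h4 : sgn ((c : GolayPt → ZMod 2) ((σ : Equiv.Perm GolayPt) i)) ≠ 0 := by
      intro h5
      have h6 := sgn_mul_self ((c : GolayPt → ZMod 2) ((σ : Equiv.Perm GolayPt) i))
      rw [h5] at h6
      norm_num at h6
    rw [mul_ne_zero_iff]
    exact ⟨fun h => h.2, fun h => ⟨h4, h⟩⟩
  rw [← xi_e8_ne_zero hT i j, ← hx, ← h3, h2, ← xi_e8_ne_zero hT _ m, ← hx]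
  rcases hm with hm | hm
  · rw [hm]
  · rw [hm, Co0Mono.smul_neg]
    exact neg_ne_zero

/-- The combinatorial step. -/
theorem fix_of {O : Finset GolayPt} (hO : O.card = 8) {σ : Equiv.Perm GolayPt}
    (hσ : ∀ i ∈ O, σ i ∈ O)
    (h : ∀ S ⊆ O, S.card = 4 → (∀ i ∈ S, σ i ∈ S) ∨ ∀ i ∈ S, σ i ∉ S) : ∀ a ∈ O, σ a = a := by
  classical
  intro a ha
  by_contra hne
  -- choose `c ≠ a, b`, `b = σ a`
  obtain ⟨c, hc⟩ : ((O.erase a).erase (σ a)).Nonempty := by
    rw [← Finset.card_pos, Finset.card_erase_of_mem (Finset.mem_erase.2 ⟨hne, hσ a ha⟩),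
      Finset.card_erase_of_mem ha, hO]
    norm_num
  rw [Finset.mem_erase, Finset.mem_erase] at hc
  obtain ⟨hcb, hca, hcO⟩ := hc
  have hcσ : σ c ≠ σ a := fun h => hca (σ.injective h)
  have hsub : ({a, c, σ c} : Finset GolayPt) ⊆ O.erase (σ a) := by
    intro x hx
    rw [Finset.mem_insert, Finset.mem_insert, Finset.mem_singleton] at hx
    rw [Finset.mem_erase]
    rcases hx with rfl | rfl | rfl
    · exact ⟨fun h => hne h.symm, ha⟩
    · exact ⟨hcb, hcO⟩
    · exact ⟨hcσ, hσ c hcO⟩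
  have hcard : (O.erase (σ a)).card = 7 := by
    rw [Finset.card_erase_of_mem (hσ a ha), hO]
  obtain ⟨S, h1, h2, h3⟩ := Finset.exists_subsuperset_card_eq hsub (n := 4)
    ((Finset.card_le_three).trans (by norm_num)) (by omega)
  have hS : S ⊆ O := h2.trans (Finset.erase_subset _ _)
  have haS : a ∈ S := h1 (by simp)
  have hcS : c ∈ S := h1 (by simp)
  have hcS' : σ c ∈ S := h1 (by simp)
  have hbS : σ a ∉ S := fun h => (Finset.mem_erase.1 (h2 h)).1 rfl
  rcases h S hS h3 with h4 | h4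
  · exact hbS (h4 a haS)
  · exact h4 c hcS hcS'

theorem le_of_odd {A : Type*} [Group A] [Finite A] {M C Q : Subgroup A}
    (hodd : ¬ 2 ∣ M.relIndex C) (hQ : Q ≤ C) (hQ2 : IsPGroup 2 Q)
    (hn : ∀ g ∈ C, ∀ x ∈ Q, g * x * g⁻¹ ∈ Q) : Q ≤ M := by
  have hP : IsPGroup 2 (Q.subgroupOf C) := hQ2.comap_of_injective C.subtype C.subtype_injective
  obtain ⟨x, hx⟩ := hP.nonempty_fixed_point_of_prime_not_dvd_card (C ⧸ M.subgroupOf C) hodd
  obtain ⟨g, rfl⟩ := QuotientGroup.mk_surjective x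
  intro q hq
  have h1 : (g : A) * q * (g : A)⁻¹ ∈ Q := hn g g.2 q hq
  have h2 := hx ⟨⟨(g : A) * q * (g : A)⁻¹, hQ h1⟩, h1⟩
  have h3 : (((⟨(g : A) * q * (g : A)⁻¹, hQ h1⟩ : C) * g : C) : C ⧸ M.subgroupOf C) =
      ((g : C) : C ⧸ M.subgroupOf C) := h2
  rw [eq_comm, QuotientGroup.eq] at h3
  have h4 : (g : A)⁻¹ * ((g : A) * q * (g : A)⁻¹ * g) ∈ M := h3
  have h5 : (g : A)⁻¹ * ((g : A) * q * (g : A)⁻¹ * g) = q := by group
  rwa [h5] at h4

theorem comm_le_Rh (ho : wt o = 8) {Q : Subgroup Co0} (hQ : Q ≤ C0 o) (hQ2 : IsPGroup 2 Q)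
    (hn : ∀ g ∈ C0 o, ∀ x ∈ Q, g * x * g⁻¹ ∈ Q) : ⁅Q, Q⁆ ≤ Rh o := by
  have : Finite Co0 := Cfsg.Agent.CoOneType.FrameFix.finite_co0
  have hodd : ¬ 2 ∣ (N ⊓ C0 o).relIndex (C0 o) := by
    intro h
    have h1 := Subgroup.relIndex_mul_index (inf_le_right : N ⊓ C0 o ≤ C0 o)
    rw [Perf.index_inf ho] at h1
    obtain ⟨k, hk⟩ := h
    rw [hk] at h1
    have : (2 * (k * (C0 o).index)) = 6293912625 := by rw [← h1]; ring
    omega
  have hQN : Q ≤ N ⊓ C0 o := le_of_odd hodd hQ hQ2 hn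
  -- elements of `Q` fix the points of `o`
  have hdiag : ∀ q ∈ Q, ∀ i ∈ sup o, q • e8 i = e8 i ∨ q • e8 i = -e8 i := by
    intro q hq i hi
    obtain ⟨c, σ, hσ, rfl⟩ := Perf.mem_inf_iff.1 (hQN hq)
    have hfix : (σ : Equiv.Perm GolayPt) i = i := by
      refine fix_of (O := sup o) ho (fun i hi => (So_apply hσ i).2 hi) ?_ i hi
      intro S hS hS4
      obtain ⟨T, hT, hT0, hTo, -⟩ := exists_sextet ho hS4 hS
      have hx : Xi.xiCo0 T hT ∈ C0 o := xi_mem hT hTo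
      have h1 : (Xi.xiCo0 T hT)⁻¹ * (signCo0 c * permCo0 σ) * Xi.xiCo0 T hT ∈ N := by
        have h2 := hn _ ((C0 o).inv_mem hx) _ hq
        rw [inv_inv] at h2
        exact (hQN h2).1
      obtain ⟨j, hj⟩ : S.Nonempty := by rw [← Finset.card_pos, hS4]; norm_num
      obtain ⟨k, hk⟩ := tetrad hT h1 j
      have hmem : ∀ p, p ∈ S ↔ T p = 0 := fun p => by rw [← hT0, Xi.mem_fib]
      have hTj : T j = 0 := (hmem j).1 hj
      rw [hTj] at hk
      by_cases hk0 : k = 0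
      · left
        intro p hp
        rw [hmem, ← hk0, ← hk p, ← hmem]
        exact hp
      · right
        intro p hp h3
        rw [hmem] at h3
        exact hk0 (((hk p).1 ((hmem p).1 hp)).symm.trans h3)
    rw [mul_smul, perm_smul_e8, hfix]
    exact sgn_smul_e8 c i
  rw [Subgroup.commutator_le]
  intro a ha b hb
  rw [mem_Rh_iff]
  intro i hi
  have key : ∀ q ∈ Q, ∃ s : ℤ, (s = 1 ∨ s = -1) ∧ q • e8 i = s • e8 i := by
    intro q hq
    rcases hdiag q hq i hi with h | h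
    · exact ⟨1, Or.inl rfl, by rw [h, one_smul]⟩
    · exact ⟨-1, Or.inr rfl, by rw [h, neg_one_smul]⟩
  obtain ⟨s, hs, h1⟩ := key a ha
  obtain ⟨t, ht, h2⟩ := key b hb
  obtain ⟨s', hs', h1'⟩ := key a⁻¹ (Q.inv_mem ha)
  obtain ⟨t', ht', h2'⟩ := key b⁻¹ (Q.inv_mem hb)
  have e1 : a • (a⁻¹ • e8 i) = e8 i := smul_inv_smul _ _
  have e2 : b • (b⁻¹ • e8 i) = e8 i := smul_inv_smul _ _
  rw [h1', smul_zsmul, h1] at e1
  rw [h2', smul_zsmul, h2] at e2
  have f1 : a⁻¹ • (b⁻¹ • e8 i) = t' • s' • e8 i := by rw [h2', smul_zsmul, h1']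
  have f2 : b • (a⁻¹ • (b⁻¹ • e8 i)) = t' • s' • t • e8 i := by
    rw [f1, smul_zsmul, smul_zsmul, h2]
  have f3 : a • (b • (a⁻¹ • (b⁻¹ • e8 i))) = t' • s' • t • s • e8 i := by
    rw [f2, smul_zsmul, smul_zsmul, smul_zsmul, h1]
  rw [commutatorElement_def, mul_smul, mul_smul, mul_smul, f3]
  rw [smul_smul] at e1 e2
  rw [smul_smul, smul_smul, smul_smul]
  have e3 : t' * s' * t * s = (s' * s) * (t' * t) := by ring
  rw [e3, ← smul_smul, e2, e1]

theorem allOne_notMem (ho : wt o = 8) {Q : Subgroup Co0} (hQ : Q ≤ C0 o) (hQ2 : IsPGroup 2 Q)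
    (hn : ∀ g ∈ C0 o, ∀ x ∈ Q, g * x * g⁻¹ ∈ Q) : signCo0 allOne ∉ ⁅Q, Q⁆ :=
  fun h => RIrr.allOne_notMem ho (comm_le_Rh ho hQ hQ2 hn h)

end Cfsg.Agent.OddHalf.D9.Co1.Label

end

-- merged: Cfsg.Agent.OddHalf.D9.Co1.Facts
section

/-!
# The facts on `Co0` for the row `2.Co1`

`facts : Isolated.Facts Co0 (-1) P D` where `P` (`D`) are the conjugates of the sign changes on the octads
(dodecads).
-/

set_option autoImplicit false
set_option Elab.async false
open Cfsg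
open scoped Pointwise commutatorElement

namespace Cfsg.Agent.OddHalf.D9.Co1.Facts

open Cfsg.Agent.SporadicA.GolayBase Cfsg.Agent.SporadicA.GolayPerm
open Cfsg.Agent.SporadicStructure.M24El
open Cfsg.Agent.SporadicA.Co0Mono Cfsg.Agent.SporadicA.Co1Simple
open Cfsg.Agent.SporadicStructure.Co0Base (e8 e8_coe)
open Cfsg.Agent.Co2Type.Mono
open Cfsg.Agent.CoOneType.InvMain (b0 b0m isCode_b0m b0m_xor cd_all conj_sign_of_sq_one
  conj_b0_of_sq_neg)
open Cfsg.Agent.CoOneType.SignFacts (sup mem_sup notMem_sup wt sup_mem wt_cases wt_add_allOne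
  sign_allOne_comm)
open Cfsg.Agent.CoOneType.ClosingFacts (mem_center_iff eq_zero_of_wt eq_allOne_of_wt)
open Cfsg.Agent.CoOneType.CentOctad (C0 mem_C0 sign_mem perm_mem)
open Cfsg.Agent.KFacts.Co1.OctGen (sign_inj)
open Cfsg.Agent.KFacts.Co1.OctPts (exists_notMem exists_disj fo_trans fo_word)
open Cfsg.Agent.KFacts.Co1.RHat
open Cfsg.Agent.KFacts.Co1
open Cfsg.Agent.J4.M24InvolData (P2)
open Cfsg.Agent.J4.M24Invol (ok_P2)
open Cfsg.Agent.OddHalf.D9.Isolated (Lab mem_centralizer_iff')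

/-- The central involution. -/
noncomputable abbrev ζ : Co0 := signCo0 allOne

/-- Conjugate to the sign change on an octad. -/
def P (k : Co0) : Prop := ∃ (g : Co0) (c : golayCode), wt c = 8 ∧ g * k * g⁻¹ = signCo0 c

/-- Conjugate to the sign change on a dodecad. -/
def D (k : Co0) : Prop := ∃ (g : Co0) (c : golayCode), wt c = 12 ∧ g * k * g⁻¹ = signCo0 c

theorem sup_cd {m : ℕ} (h : isCode m = true) : sup (cd m) = fin m := by
  unfold sup
  rw [coe_cd h]
  exact support₂_word m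

theorem wt_cd {m : ℕ} (h : isCode m = true) : wt (cd m) = popcount m := by
  unfold wt
  rw [sup_cd h, card_fin]

theorem ζ_eq : ζ = mo 16777215 idP := by
  unfold mo
  rw [el_idP, map_one, mul_one, cd_all]

theorem conj_octad {c d : golayCode} (hc : wt c = 8) (hd : wt d = 8) :
    ∃ g : Co0, g * signCo0 c * g⁻¹ = signCo0 d := by
  obtain ⟨g, hg⟩ := Cfsg.Agent.S0367.result (sup c) (sup d) ⟨sup_mem c, hc⟩ ⟨sup_mem d, hd⟩
  refine ⟨permCo0 g, ?_⟩
  rw [perm_mul_sign_mul_inv, Cfsg.Agent.CoOneType.Thirteen.wordPerm_support g c d hg]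

theorem conj_dodecad {c d : golayCode} (hc : wt c = 12) (hd : wt d = 12) :
    ∃ g : Co0, g * signCo0 c * g⁻¹ = signCo0 d := by
  obtain ⟨g, hg⟩ := Cfsg.Agent.S0368.result (sup c) (sup d) ⟨sup_mem c, hc⟩ ⟨sup_mem d, hd⟩
  refine ⟨permCo0 g, ?_⟩
  rw [perm_mul_sign_mul_inv, Cfsg.Agent.CoOneType.Thirteen.wordPerm_support g c d hg]

theorem ζ_cen (k : Co0) : k * ζ = ζ * k := sign_allOne_comm k

theorem ζ_sq : ζ * ζ = 1 := signCo0_mul_self _

theorem sign_ne_one {c : golayCode} (h : wt c ≠ 0) : signCo0 c ≠ 1 := by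
  intro h1
  rw [← signCo0_zero] at h1
  apply h
  rw [sign_inj h1]
  unfold wt
  rw [Finset.card_eq_zero]
  ext i
  rw [mem_sup]
  simp

theorem sign_ne_ζ {c : golayCode} (h : wt c ≠ 24) : signCo0 c ≠ ζ := by
  intro h1
  have h2 := sign_inj h1
  have h3 := wt_add_allOne c
  rw [h2] at h3
  have h4 : wt (allOne + allOne) = 0 := by
    unfold wt
    rw [Finset.card_eq_zero]
    ext i
    rw [mem_sup]
    have : (allOne + allOne : golayCode) = 0 := OctPts.add_self _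
    rw [this]
    simp
  rw [h4] at h3
  rw [h2] at h
  omega

theorem one_ne : ζ ≠ 1 := sign_ne_one (by
  have h := wt_add_allOne (0 : golayCode)
  rw [zero_add] at h
  have h4 : wt (0 : golayCode) = 0 := by
    unfold wt
    rw [Finset.card_eq_zero]
    ext i
    rw [mem_sup]
    simp
  omega)

/-! ### The commutator property -/

/-- `-1` is a commutator of two elements commuting with `k`. -/
def Cm (k : Co0) : Prop := ∃ u v : Co0, u * k = k * u ∧ v * k = k * v ∧ u * v = ζ * (v * u)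

theorem Cm.conj {k : Co0} (h : Cm k) (g : Co0) : Cm (g * k * g⁻¹) := by
  obtain ⟨u, v, hu, hv, huv⟩ := h
  refine ⟨g * u * g⁻¹, g * v * g⁻¹, ?_, ?_, ?_⟩
  · have e1 : g * u * g⁻¹ * (g * k * g⁻¹) = g * (u * k) * g⁻¹ := by group
    have e2 : g * k * g⁻¹ * (g * u * g⁻¹) = g * (k * u) * g⁻¹ := by group
    rw [e1, e2, hu]
  · have e1 : g * v * g⁻¹ * (g * k * g⁻¹) = g * (v * k) * g⁻¹ := by group
    have e2 : g * k * g⁻¹ * (g * v * g⁻¹) = g * (k * v) * g⁻¹ := by group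
    rw [e1, e2, hv]
  · have e1 : g * u * g⁻¹ * (g * v * g⁻¹) = g * (u * v) * g⁻¹ := by group
    have e2 : g * v * g⁻¹ * (g * u * g⁻¹) = g * (v * u) * g⁻¹ := by group
    rw [e1, e2, huv, ← mul_assoc g, ζ_cen]
    simp only [mul_assoc]

theorem Cm.of_conj {k l g : Co0} (hg : g * k * g⁻¹ = l) (h : Cm l) : Cm k := by
  have h1 := h.conj g⁻¹
  rw [← hg] at h1
  have : g⁻¹ * (g * k * g⁻¹) * g⁻¹⁻¹ = k := by group
  rwa [this] at h1

theorem Cm.neg {k : Co0} (h : Cm k) : Cm (ζ * k) := by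
  obtain ⟨u, v, hu, hv, huv⟩ := h
  refine ⟨u, v, ?_, ?_, huv⟩
  · rw [← mul_assoc, ζ_cen, mul_assoc, hu, mul_assoc]
  · rw [← mul_assoc, ζ_cen, mul_assoc, hv, mul_assoc]

theorem cm_sign {m : ℕ} (hm : isCode m = true) (h : pimg P2 m = m) : Cm (signCo0 (cd m)) := by
  refine ⟨signCo0 (cd b0m), permCo0 (el P2), ?_, ?_, ?_⟩
  · rw [← signCo0_add, ← signCo0_add, add_comm]
  · rw [perm_mul_sign, wordPerm_cd ok_P2 hm, h]
  · rw [perm_mul_sign, wordPerm_cd ok_P2 isCode_b0m, ← mul_assoc, ← signCo0_add]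
    have : (allOne + cd (pimg P2 b0m) : golayCode) = cd b0m := by
      rw [← cd_all, ← b0m_xor, cd_xor isCode_b0m (isCode_pimg ok_P2 isCode_b0m), add_assoc,
        OctPts.add_self, add_zero]
    rw [this]

/-- The octad fixed by `P2`. -/
theorem okO : (isCode 11538486 && Nat.beq (pimg P2 11538486) 11538486 &&
    Nat.beq (popcount 11538486) 8) = true := by decide +kernel

/-- The dodecad fixed by `P2`. -/
theorem okD : (isCode 13553934 && Nat.beq (pimg P2 13553934) 13553934 &&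
    Nat.beq (popcount 13553934) 12) = true := by decide +kernel

theorem cm_octad {c : golayCode} (hc : wt c = 8) : Cm (signCo0 c) := by
  have h := okO
  rw [Bool.and_eq_true, Bool.and_eq_true, Nat.beq_eq, Nat.beq_eq] at h
  obtain ⟨g, hg⟩ := conj_octad hc (show wt (cd 11538486) = 8 by rw [wt_cd h.1.1, h.2])
  exact (cm_sign h.1.1 h.1.2).of_conj hg

theorem cm_dodecad {c : golayCode} (hc : wt c = 12) : Cm (signCo0 c) := by
  have h := okD
  rw [Bool.and_eq_true, Bool.and_eq_true, Nat.beq_eq, Nat.beq_eq] at h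
  obtain ⟨g, hg⟩ := conj_dodecad hc (show wt (cd 13553934) = 12 by rw [wt_cd h.1.1, h.2])
  exact (cm_sign h.1.1 h.1.2).of_conj hg

def xm : ℕ := 12785423
def ym : ℕ := 13463644
def Tm : ℕ := 316150451084631660137141560253005269

theorem ok_b0 : (isCode xm && isCode ym && ok Tm && isCode b0m && isCode 16777215 &&
    Nat.beq (pimg idP b0m) b0m && Nat.beq (pimg P2 xm) xm &&
    Nat.beq (pcomp P2 idP) (pcomp idP P2) &&
    Nat.beq (ym ^^^ pimg Tm b0m) (b0m ^^^ pimg P2 ym) &&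
    Nat.beq (pcomp Tm P2) (pcomp P2 Tm) &&
    Nat.beq (16777215 ^^^ pimg idP (ym ^^^ pimg Tm xm)) (xm ^^^ pimg idP ym) &&
    Nat.beq (pcomp idP (pcomp Tm idP)) (pcomp idP Tm)) = true := by decide +kernel

theorem cm_b0 : Cm b0 := by
  have h := ok_b0
  simp only [Bool.and_eq_true, Nat.beq_eq] at h
  obtain ⟨⟨⟨⟨⟨⟨⟨⟨⟨⟨⟨hx, hy⟩, hT⟩, hb⟩, ha⟩, h1⟩, h2⟩, h3⟩, h4⟩, h5⟩, h6⟩, h7⟩ := h
  have hb0 : b0 = mo b0m P2 := rfl
  have hyT : isCode (ym ^^^ pimg Tm xm) = true := isCode_xor hy (isCode_pimg hT hx)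
  refine ⟨mo xm idP, mo ym Tm, ?_, ?_, ?_⟩
  · rw [hb0, mo_mul hx hb ok_idP ok_P2, mo_mul hb hx ok_P2 ok_idP, h1, h2, h3, Nat.xor_comm]
  · rw [hb0, mo_mul hy hb hT ok_P2, mo_mul hb hy ok_P2 hT, h4, h5]
  · rw [ζ_eq, mo_mul hx hy ok_idP hT, mo_mul hy hx hT ok_idP,
      mo_mul ha hyT ok_idP (ok_pcomp hT ok_idP), h6, h7]

/-! ### Involutions -/

theorem cases (k : Co0) (h2 : k * k = 1) (h1 : k ≠ 1) (hz : k ≠ ζ) : P k ∨ P (ζ * k) ∨ D k := by
  obtain ⟨g, c, hg⟩ := conj_sign_of_sq_one k h2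
  rcases wt_cases c with h | h | h | h | h
  · exfalso
    apply h1
    rw [eq_zero_of_wt h, signCo0_zero] at hg
    have : k = g⁻¹ * (g * k * g⁻¹) * g := by group
    rw [this, hg]
    group
  · exact Or.inl ⟨g, c, h, hg⟩
  · exact Or.inr (Or.inr ⟨g, c, h, hg⟩)
  · refine Or.inr (Or.inl ⟨g, c + allOne, ?_, ?_⟩)
    · have := wt_add_allOne c; omega
    · rw [← mul_assoc, ζ_cen, mul_assoc, mul_assoc, ← mul_assoc g, hg, ← signCo0_add, add_comm]
  · exfalso
    apply hz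
    rw [eq_allOne_of_wt h] at hg
    have : k = g⁻¹ * (g * k * g⁻¹) * g := by group
    rw [this, hg, ζ_cen]
    group

theorem sq_of_conj {k g : Co0} {c : golayCode} (h : g * k * g⁻¹ = signCo0 c) : k * k = 1 := by
  have h1 : (g * k * g⁻¹) * (g * k * g⁻¹) = 1 := by rw [h, signCo0_mul_self]
  have h2 : k * k = g⁻¹ * ((g * k * g⁻¹) * (g * k * g⁻¹)) * g := by group
  rw [h2, h1]
  group

theorem ne_of_conj {k g : Co0} {c : golayCode} (h : g * k * g⁻¹ = signCo0 c) (h0 : wt c ≠ 0)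
    (h24 : wt c ≠ 24) : k ≠ 1 ∧ k ≠ ζ ∧ k * k = 1 := by
  refine ⟨?_, ?_, sq_of_conj h⟩
  · rintro rfl
    apply sign_ne_one h0
    rw [← h]
    group
  · rintro rfl
    apply sign_ne_ζ h24
    rw [← h, ζ_cen]
    group

theorem conj_of {A : Type*} [Group A] {k l a b g s t : A} (h1 : a * k * a⁻¹ = s)
    (h2 : b * l * b⁻¹ = t) (h3 : g * s * g⁻¹ = t) : ∃ x : A, x * k * x⁻¹ = l := by
  refine ⟨b⁻¹ * g * a, ?_⟩
  have e1 : b⁻¹ * g * a * k * (b⁻¹ * g * a)⁻¹ = b⁻¹ * (g * (a * k * a⁻¹) * g⁻¹) * b := by group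
  rw [e1, h1, h3, ← h2]
  group

/-! ### The centralizer of an octad sign change -/

/-- The centralizer of `k` and that of its conjugate. -/
theorem cent_conj {k g : Co0} {c : golayCode} (h : g * k * g⁻¹ = signCo0 c) (x : Co0) :
    x ∈ (Subgroup.centralizer {k} : Subgroup Co0) ↔ g * x * g⁻¹ ∈ C0 c := by
  rw [mem_centralizer_iff', mem_C0, ← h]
  have e1 : g * x * g⁻¹ * (g * k * g⁻¹) = g * (x * k) * g⁻¹ := by group
  have e2 : g * k * g⁻¹ * (g * x * g⁻¹) = g * (k * x) * g⁻¹ := by group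
  rw [e1, e2, mul_left_inj, mul_right_inj]

theorem index_conj {k g : Co0} {c : golayCode} (h : g * k * g⁻¹ = signCo0 c) :
    (Subgroup.centralizer {k} : Subgroup Co0).index = (C0 c).index := by
  have h1 : (Subgroup.centralizer {k} : Subgroup Co0).map (MulAut.conj g).toMonoidHom = C0 c := by
    ext x
    constructor
    · rintro ⟨y, hy, rfl⟩
      exact (cent_conj h y).1 hy
    · intro hx
      refine ⟨g⁻¹ * x * g, ?_, ?_⟩
      · rw [SetLike.mem_coe, cent_conj h]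
        have : g * (g⁻¹ * x * g) * g⁻¹ = x := by group
        rwa [this]
      · show g * (g⁻¹ * x * g) * g⁻¹ = x
        group
  rw [← h1]
  exact (Subgroup.index_map_equiv _ (MulAut.conj g)).symm

theorem isPGroup_Rh {o : golayCode} (ho : wt o = 8) : IsPGroup 2 (Rh o) := by
  intro r
  refine ⟨2, ?_⟩
  apply Subtype.ext
  have h1 := Rh_sq ho r.2
  show (r : Co0) ^ (2 ^ 2) = 1
  have h2 : (r : Co0) ^ (2 ^ 2) = ((r : Co0) * r) * ((r : Co0) * r) := by
    rw [← pow_two, ← pow_two, ← pow_mul]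
    norm_num
  rw [h2]
  rcases h1 with h1 | h1
  · rw [h1, one_mul]
  · rw [h1, signCo0_mul_self]

theorem lab_octad {o : golayCode} (ho : wt o = 8) : Lab (C0 o) (signCo0 (o + allOne)) := by
  refine ⟨Rh o, Rh_le_C0 ho, isPGroup_Rh ho, fun g hg x hx => Rh_conj hg hx, ?_⟩
  obtain ⟨r, hr, s, hs, hne⟩ := RIrr.exists_noncomm ho
  have h1 := (Rh_mul ho hr hs).resolve_left hne
  have h2 : signCo0 (o + allOne) = ⁅r, s⁆ := by
    rw [commutatorElement_def, h1]
    group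
  rw [h2]
  exact Subgroup.commutator_mem_commutator hr hs

/-! ### The explicit triples -/

theorem conj_one {A : Type*} [Group A] (x : A) : 1 * x * 1⁻¹ = x := by group

theorem okP : (isCode 13062145 && isCode 4845570 && isCode 9347075 &&
    Nat.beq (13062145 ^^^ 4845570) 9347075 && Nat.beq (popcount 13062145) 8 &&
    Nat.beq (popcount 4845570) 8 && Nat.beq (popcount 9347075) 8) = true := by decide +kernel

theorem okDD : (isCode 8245261 && isCode 15953934 && isCode 9347075 &&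
    Nat.beq (8245261 ^^^ 15953934) 9347075 && Nat.beq (popcount 8245261) 12 &&
    Nat.beq (popcount 15953934) 12 && Nat.beq (popcount 9347075) 8) = true := by decide +kernel

/-- **The facts.** -/
theorem facts : Isolated.Facts Co0 ζ P D where
  one := one_ne
  sq := ζ_sq
  cen := ζ_cen
  center k h := (mem_center_iff k).1 (Subgroup.mem_center_iff.2 h)
  comm k h1 hz h2 := by
    rcases h2 with h2 | h2
    · rcases cases k h2 h1 hz with ⟨g, c, hc, hg⟩ | ⟨g, c, hc, hg⟩ | ⟨g, c, hc, hg⟩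
      · exact (cm_octad hc).of_conj hg
      · have h3 := ((cm_octad hc).of_conj hg).neg
        rwa [← mul_assoc, ζ_sq, one_mul] at h3
      · exact (cm_dodecad hc).of_conj hg
    · obtain ⟨g, hg⟩ := conj_b0_of_sq_neg k h2
      exact cm_b0.of_conj hg
  cases := cases
  P_one k := by
    rintro ⟨g, c, hc, hg⟩
    exact ne_of_conj hg (by omega) (by omega)
  D_one k := by
    rintro ⟨g, c, hc, hg⟩
    exact ne_of_conj hg (by omega) (by omega)
  P_conj k l := by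
    rintro ⟨g, c, hc, hg⟩ ⟨g', c', hc', hg'⟩
    obtain ⟨x, hx⟩ := conj_octad hc hc'
    exact conj_of hg hg' hx
  D_conj k l := by
    rintro ⟨g, c, hc, hg⟩ ⟨g', c', hc', hg'⟩
    obtain ⟨x, hx⟩ := conj_dodecad hc hc'
    exact conj_of hg hg' hx
  D_neg k := by
    rintro ⟨g, c, hc, hg⟩
    refine ⟨g, c + allOne, ?_, ?_⟩
    · have := wt_add_allOne c; omega
    · rw [← mul_assoc, ζ_cen, mul_assoc, mul_assoc, ← mul_assoc g, hg, ← signCo0_add, add_comm]
  odd k := by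
    rintro ⟨g, c, hc, hg⟩ h
    rw [index_conj hg] at h
    have h1 := Perf.odd_index_C0 hc
    rw [Nat.odd_iff] at h1
    omega
  label1 k := by
    rintro ⟨g, c, hc, hg⟩
    have h := (lab_octad hc).conj g (cent_conj hg)
    have e : g⁻¹ * signCo0 (c + allOne) * g = ζ * k := by
      rw [add_comm, signCo0_add, ← hg, ← mul_assoc, ζ_cen]
      group
    rwa [e] at h
  label2 k := by
    rintro ⟨g, c, hc, hg⟩ Q hQ hQ2 hQn hw
    have h : Lab (Subgroup.centralizer {k} : Subgroup Co0) ζ := ⟨Q, hQ, hQ2, hQn, hw⟩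
    have h1 := h.conj g⁻¹ (Y := C0 c) (fun x => by
      rw [cent_conj hg]
      have : g * (g⁻¹ * x * g⁻¹⁻¹) * g⁻¹ = x := by group
      rw [this])
    have e : g⁻¹⁻¹ * ζ * g⁻¹ = ζ := by
      rw [ζ_cen]
      group
    rw [e] at h1
    obtain ⟨Q', h2, h3, h4, h5⟩ := h1
    exact Label.allOne_notMem hc h2 h3 h4 h5
  tripleP := by
    have h := okP
    simp only [Bool.and_eq_true, Nat.beq_eq] at h
    obtain ⟨⟨⟨⟨⟨⟨h1, h2⟩, h3⟩, h4⟩, h5⟩, h6⟩, h7⟩ := h
    refine ⟨signCo0 (cd 13062145), signCo0 (cd 4845570), ?_, ⟨1, _, ?_, conj_one _⟩,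
      ⟨1, _, ?_, conj_one _⟩, ⟨1, cd 9347075, ?_, ?_⟩⟩
    · rw [← signCo0_add, ← signCo0_add, add_comm]
    · rw [wt_cd h1, h5]
    · rw [wt_cd h2, h6]
    · rw [wt_cd h3, h7]
    · rw [← signCo0_add, ← cd_xor h1 h2, h4, conj_one]
  tripleD := by
    have h := okDD
    simp only [Bool.and_eq_true, Nat.beq_eq] at h
    obtain ⟨⟨⟨⟨⟨⟨h1, h2⟩, h3⟩, h4⟩, h5⟩, h6⟩, h7⟩ := h
    refine ⟨signCo0 (cd 8245261), signCo0 (cd 15953934), ?_, ⟨1, _, ?_, conj_one _⟩,
      ⟨1, _, ?_, conj_one _⟩, ⟨1, cd 9347075, ?_, ?_⟩⟩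
    · rw [← signCo0_add, ← signCo0_add, add_comm]
    · rw [wt_cd h1, h5]
    · rw [wt_cd h2, h6]
    · rw [wt_cd h3, h7]
    · rw [← signCo0_add, ← cd_xor h1 h2, h4, conj_one]

end Cfsg.Agent.OddHalf.D9.Co1.Facts

end
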